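import Groth.Agent.NormUniv.Basic
import Groth.Agent.NormalizationNormal.Main
import Groth.Agent.S4989

/-!
Normalization of integral schemes commutes with smooth base change.
-/

set_option autoImplicit false
set_option linter.style.haveILetI false
set_option backward.isDefEq.respectTransparency false
universe u

open CategoryTheory CategoryTheory.Limits AlgebraicGeometry

namespace Groth.Agent.NormSmoothBC

variable {X : Scheme.{u}} [IsIntegral X] [QuasiCompact (X.fromSpecStalk (genericPoint X))]
  [QuasiSeparated (X.fromSpecStalk (genericPoint X))]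

instance : Subsingleton ↥(Spec (X.presheaf.stalk (genericPoint X))) :=
  inferInstanceAs (Subsingleton (PrimeSpectrum X.functionField))

theorem range_fromSpecStalk_genericPoint {x : Spec (X.presheaf.stalk (genericPoint X))} :
    X.fromSpecStalk (genericPoint X) x = genericPoint X := by
  have hF : IsField (X.presheaf.stalk (genericPoint X)) := Field.toIsField X.functionField
  letI := hF.toField
  rw [Subsingleton.elim x (IsLocalRing.closedPoint _)]
  exact Scheme.fromSpecStalk_closedPoint

instance : IsIntegral (Spec (X.presheaf.stalk (genericPoint X))) := by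
  haveI : IsDomain (X.presheaf.stalk (genericPoint X)) := inferInstanceAs (IsDomain X.functionField)
  infer_instance

instance isIntegral_normalization : IsIntegral (Curv2.normalization X) :=
  inferInstanceAs (IsIntegral (X.fromSpecStalk (genericPoint X)).normalization)

theorem genericPoint_normalization {x : Spec (X.presheaf.stalk (genericPoint X))} :
    (X.fromSpecStalk (genericPoint X)).toNormalization x = genericPoint (Curv2.normalization X) := by
  have h : IsGenericPoint ((X.fromSpecStalk (genericPoint X)).toNormalization x) Set.univ := by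
    refine Set.eq_univ_of_forall fun z => ?_
    have hd := (X.fromSpecStalk (genericPoint X)).toNormalization.denseRange z
    refine closure_mono ?_ hd
    rintro _ ⟨y, rfl⟩
    have hF : IsField (X.presheaf.stalk (genericPoint X)) := Field.toIsField X.functionField
    letI := hF.toField
    rw [Subsingleton.elim y x]
    rfl
  exact h.eq (genericPoint_spec (Curv2.normalization X))

theorem ι_genericPoint : Curv2.normalizationι X (genericPoint (Curv2.normalization X)) = genericPoint X := by
  have hF : IsField (X.presheaf.stalk (genericPoint X)) := Field.toIsField X.functionField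
  letI := hF.toField
  rw [← genericPoint_normalization (x := IsLocalRing.closedPoint _)]
  show ((X.fromSpecStalk (genericPoint X)).toNormalization ≫ (X.fromSpecStalk (genericPoint X)).fromNormalization) _ = _
  rw [Scheme.Hom.toNormalization_fromNormalization]
  exact range_fromSpecStalk_genericPoint

theorem isNormal : Pi1.IsNormalScheme (Curv2.normalization X) := by
  have hF : IsField (X.presheaf.stalk (genericPoint X)) := Field.toIsField X.functionField
  refine NormalizationNormal.isNormal_normalization (X.fromSpecStalk (genericPoint X)) (fun y => ?_) (fun y => ?_)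
  · letI := hF.toField
    let e := (AlgebraicGeometry.Spec.stalkIso (X.presheaf.stalk (genericPoint X)) y).commRingCatIsoToRingEquiv
    haveI : IsIntegrallyClosed (Localization.AtPrime y.asIdeal) := isIntegrallyClosed_of_isLocalization _ y.asIdeal.primeCompl
      y.asIdeal.primeCompl_le_nonZeroDivisors
    exact ⟨inferInstance, IsIntegrallyClosed.of_equiv e.symm⟩
  · exact ⟨Set.univ, Filter.univ_mem, Set.toFinite _⟩

variable {Y : Scheme.{u}} [IsIntegral Y] [QuasiCompact (Y.fromSpecStalk (genericPoint Y))]
  [QuasiSeparated (Y.fromSpecStalk (genericPoint Y))] (f : X ⟶ Y) [Smooth f]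

omit [QuasiCompact (X.fromSpecStalk (genericPoint X))] [QuasiSeparated (X.fromSpecStalk (genericPoint X))] [QuasiCompact (Y.fromSpecStalk (genericPoint Y))]
  [QuasiSeparated (Y.fromSpecStalk (genericPoint Y))] in
theorem map_genericPoint : f (genericPoint X) = genericPoint Y := by
  obtain ⟨ζ, hζ, e⟩ := Flat.generalizingMap f (genericPoint_specializes (f (genericPoint X)))
  rw [(hζ.antisymm (genericPoint_specializes ζ)).eq] at e
  exact e

omit [IsIntegral X] in
theorem isNormal_pullback : Pi1.IsNormalScheme (pullback f (Curv2.normalizationι Y)) := fun z => by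
  have h := S4989.result (pullback.snd f (Curv2.normalizationι Y)) z (by
    rw [Scheme.Hom.smoothLocus_eq_top]; trivial)
  exact h.2.mpr (isNormal _)

omit [QuasiCompact (X.fromSpecStalk (genericPoint X))] [QuasiSeparated (X.fromSpecStalk (genericPoint X))] in
theorem dom_pullback (z : ↥(pullback f (Curv2.normalizationι Y))) :
    ∃ ζ, ζ ⤳ z ∧ pullback.fst f (Curv2.normalizationι Y) ζ = genericPoint X := by
  obtain ⟨ζ, hζmax, hζ⟩ := DomLib.exists_max z
  refine ⟨ζ, hζ, ?_⟩
  let j : Spec (Y.presheaf.stalk (genericPoint Y)) ⟶ Curv2.normalization Y :=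
    (Y.fromSpecStalk (genericPoint Y)).toNormalization
  have hj : j ≫ Curv2.normalizationι Y = Y.fromSpecStalk (genericPoint Y) :=
    Scheme.Hom.toNormalization_fromNormalization _
  let m : pullback f (Y.fromSpecStalk (genericPoint Y)) ⟶ pullback f (Curv2.normalizationι Y) :=
    pullback.lift (pullback.fst _ _) (pullback.snd _ _ ≫ j) (by rw [Category.assoc, hj]; exact pullback.condition)
  have hmax : ∀ ξ, ξ ⤳ ζ → ξ = ζ := fun ξ hξ => by
    have h : closure ({ζ} : Set ↥(pullback f (Curv2.normalizationι Y))) ⊆ closure {ξ} :=
      hξ.closure_subset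
    have he := hζmax.2 isIrreducible_singleton.closure h
    exact (hξ.antisymm (specializes_iff_closure_subset.2 he)).eq
  have hs : pullback.snd f (Curv2.normalizationι Y) ζ = genericPoint (Curv2.normalization Y) := by
    obtain ⟨ξ, hξ, e⟩ := Flat.generalizingMap (pullback.snd f (Curv2.normalizationι Y))
      (genericPoint_specializes (pullback.snd f (Curv2.normalizationι Y) ζ))
    rw [hmax ξ hξ] at e
    exact e
  have hsq : IsPullback m (pullback.snd f (Y.fromSpecStalk (genericPoint Y))) (pullback.snd f (Curv2.normalizationι Y)) j :=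
    IsPullback.of_right (by rw [pullback.lift_fst, hj]; exact IsPullback.of_hasPullback _ _)
      (pullback.lift_snd _ _ _) (IsPullback.of_hasPullback _ _)
  have hF : IsField (Y.presheaf.stalk (genericPoint Y)) := Field.toIsField Y.functionField
  letI := hF.toField
  obtain ⟨w, hw, -⟩ := Scheme.Pullback.exists_preimage_pullback (f := pullback.snd f (Curv2.normalizationι Y)) (g := j)
    ζ (IsLocalRing.closedPoint _) (hs.trans genericPoint_normalization.symm)
  let w' := hsq.isoPullback.inv w
  have hw' : m w' = ζ := by
    rw [← Scheme.Hom.comp_apply, IsPullback.isoPullback_inv_fst]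
    exact hw
  let p := pullback.fst f (Y.fromSpecStalk (genericPoint Y))
  haveI : IsPreimmersion p := MorphismProperty.pullback_fst _ _ inferInstance
  obtain ⟨v, hv, -⟩ := Scheme.Pullback.exists_preimage_pullback (f := f) (g := Y.fromSpecStalk (genericPoint Y))
    (genericPoint X) (IsLocalRing.closedPoint _) ((map_genericPoint f).trans range_fromSpecStalk_genericPoint.symm)
  have hvw : v ⤳ w' := p.isEmbedding.isInducing.specializes_iff.1 (by
    rw [hv]; exact genericPoint_specializes _)
  have he : m v = ζ := hmax _ ((hvw.map m.continuous).trans (specializes_of_eq hw'))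
  rw [← he, ← Scheme.Hom.comp_apply, pullback.lift_fst]
  exact hv

theorem existsUnique_iso : ∃! e : Curv2.normalization X ≅ pullback f (Curv2.normalizationι Y),
    e.hom ≫ pullback.fst f (Curv2.normalizationι Y) = Curv2.normalizationι X := by
  let N := pullback f (Curv2.normalizationι Y)
  have hN := isNormal_pullback f
  have hX := isNormal (X := X)
  have hdN := dom_pullback f
  have hdX : ∀ z : Curv2.normalization X, ∃ ζ, ζ ⤳ z ∧ Curv2.normalizationι X ζ = genericPoint X :=
    fun z => ⟨_, genericPoint_specializes z, ι_genericPoint⟩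
  have hdXY : ∀ z : Curv2.normalization X, ∃ ζ, ζ ⤳ z ∧ (Curv2.normalizationι X ≫ f) ζ = genericPoint Y :=
    fun z => ⟨_, genericPoint_specializes z, by rw [Scheme.Hom.comp_apply, ι_genericPoint, map_genericPoint f]⟩
  have hdNY : ∀ z : N, ∃ ζ, ζ ⤳ z ∧ (pullback.fst f (Curv2.normalizationι Y) ≫ f) ζ = genericPoint Y :=
    fun z => by
      obtain ⟨ζ, h1, h2⟩ := hdN z
      exact ⟨ζ, h1, by rw [Scheme.Hom.comp_apply, h2, map_genericPoint f]⟩
  obtain ⟨b, hb, -⟩ := NormUniv.existsUnique_lift (pullback.fst f (Curv2.normalizationι Y))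
    (fun z => (hN z).1) hdN (fun z => (hN z).2)
  obtain ⟨c, hc, -⟩ := NormUniv.existsUnique_lift (Curv2.normalizationι X ≫ f)
    (fun z => (hX z).1) hdXY (fun z => (hX z).2)
  change c ≫ Curv2.normalizationι Y = _ at hc
  change b ≫ Curv2.normalizationι X = _ at hb
  have hextN : ∀ h₁ h₂ : N ⟶ N, h₁ ≫ pullback.fst _ _ = pullback.fst _ _ → h₂ ≫ pullback.fst _ _ = pullback.fst _ _ →
      h₁ = h₂ := fun h₁ h₂ e₁ e₂ => pullback.hom_ext (e₁.trans e₂.symm)
    (NormUniv.hom_ext (pullback.fst f (Curv2.normalizationι Y) ≫ f) (fun z => (hN z).1) hdNY _ _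
      (by
        show (h₁ ≫ pullback.snd _ _) ≫ Curv2.normalizationι Y = _
        rw [Category.assoc, ← pullback.condition, reassoc_of% e₁])
      (by
        show (h₂ ≫ pullback.snd _ _) ≫ Curv2.normalizationι Y = _
        rw [Category.assoc, ← pullback.condition, reassoc_of% e₂]))
  have hextX : ∀ h₁ h₂ : Curv2.normalization X ⟶ Curv2.normalization X,
      h₁ ≫ Curv2.normalizationι X = Curv2.normalizationι X → h₂ ≫ Curv2.normalizationι X = Curv2.normalizationι X →
      h₁ = h₂ := fun h₁ h₂ e₁ e₂ => NormUniv.hom_ext _ (fun z => (hX z).1) hdX h₁ h₂ e₁ e₂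
  let a : Curv2.normalization X ⟶ N := pullback.lift (Curv2.normalizationι X) c hc.symm
  have ha : a ≫ pullback.fst f (Curv2.normalizationι Y) = Curv2.normalizationι X := pullback.lift_fst _ _ _
  refine ⟨⟨a, b, hextX _ _ (by rw [Category.assoc, hb, ha]) (Category.id_comp _),
    hextN _ _ (by rw [Category.assoc, ha, hb]) (Category.id_comp _)⟩, ha, fun e he => Iso.ext ?_⟩
  apply pullback.hom_ext
  · exact he.trans ha.symm
  · refine NormUniv.hom_ext _ (fun z => (hX z).1) hdXY _ _ ?_ ?_
    · show (e.hom ≫ pullback.snd _ _) ≫ Curv2.normalizationι Y = _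
      rw [Category.assoc, ← pullback.condition, reassoc_of% he]
    · show (a ≫ pullback.snd _ _) ≫ Curv2.normalizationι Y = _
      rw [Category.assoc, ← pullback.condition, reassoc_of% ha]

end Groth.Agent.NormSmoothBC
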